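import Groth.Agent.VarGal.Thickening
import Groth.Agent.QC70.Closure

/-!
Direct images of quasi-coherent modules of a nilpotent thickening along the continuous map
underlying an affine morphism.
-/

set_option autoImplicit false
universe u

open CategoryTheory CategoryTheory.Limits AlgebraicGeometry TopologicalSpace Opposite

namespace Groth.Agent.CartMod7

variable {T Tc U : Scheme.{u}} (i : T ⟶ Tc) [IsClosedImmersion i]

theorem surjective_of_nilpotent (hnil : ∃ n : ℕ, ∀ V : Tc.affineOpens, i.ker.ideal V ^ n = ⊥) :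
    Surjective i := by
  refine ⟨fun x => ?_⟩
  obtain ⟨n, hn⟩ := hnil
  obtain ⟨_, ⟨(V : Tc.Opens), hV, rfl⟩, hxV, -⟩ :=
    Tc.isBasis_affineOpens.exists_subset_of_mem_open (Set.mem_univ x) isOpen_univ
  have hx : x ∈ (i.ker.support : Set Tc) := by
    rw [SetLike.mem_coe, Scheme.IdealSheafData.mem_support_iff_of_mem (U := ⟨V, hV⟩) hxV, Scheme.zeroLocus_def]
    simp only [SetLike.mem_coe, Set.mem_iInter, Set.mem_compl_iff]
    intro s hs hxs
    have h0 : s ^ (n + 1) = 0 := by
      have hmem := Ideal.pow_mem_pow hs (n + 1)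
      rwa [pow_succ (i.ker.ideal _), hn ⟨V, hV⟩, Ideal.bot_mul, Ideal.mem_bot] at hmem
    rw [← Scheme.basicOpen_pow _ s (Nat.succ_pos n), h0, Scheme.basicOpen_zero] at hxs
    exact hxs.elim
  rw [Scheme.Hom.support_ker] at hx
  rwa [i.isClosedEmbedding.isClosed_range.closure_eq] at hx

variable (u : T ⟶ U) [IsAffineHom u] (g : Tc.carrier ⟶ U.carrier)

/-- The preimage of an affine open along the continuous map of the thickening is affine. -/
theorem isAffineOpen_map [Surjective i] (hg : i.base ≫ g = u.base) {V : U.Opens} (hV : IsAffineOpen V) :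
    IsAffineOpen ((Opens.map g).obj V : Tc.Opens) := by
  set W : Tc.Opens := (Opens.map g).obj V
  have e : i ⁻¹ᵁ W = u ⁻¹ᵁ V := by
    ext x
    show g (i.base x) ∈ V ↔ u.base x ∈ V
    rw [← hg]
    rfl
  have hA : IsAffine (i ⁻¹ᵁ W).toScheme := by
    rw [e]
    exact hV.preimage u
  have : Surjective (i ∣_ W) := IsZariskiLocalAtTarget.restrict (P := @Surjective) inferInstance _
  exact VarGal.isAffine_of_thickening (i ∣_ W)

variable {X : Scheme.{u}}

/-- An epimorphism of quasi-coherent modules is surjective on sections over affine opens. -/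
theorem app_surjective_of_epi {M N : X.Modules} [M.IsQuasicoherent] [N.IsQuasicoherent] (φ : M ⟶ N)
    [Epi φ] {W : X.Opens} (hW : IsAffineOpen W) : Function.Surjective (φ.app W) := by
  have := QC70.isQuasicoherent_kernel φ
  exact QC70.app_surjective_of_isAffineOpen (ShortComplex.mk (kernel.ι φ) φ (kernel.condition φ))
    { exact := ShortComplex.exact_of_f_is_kernel _ (kernelIsKernel φ) } hW

/-- A morphism of sheaves of modules on a space which is locally surjective is an epimorphism. -/
theorem epi_of_locally_surjective {Y : TopCat.{u}} {R : Sheaf (Opens.grothendieckTopology Y) RingCat.{u}}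
    {M N : SheafOfModules.{u} R} (ψ : M ⟶ N)
    (h : ∀ (V : Opens Y) (s : N.val.obj (op V)) (y : Y), y ∈ V →
      ∃ (O : Opens Y) (hO : O ≤ V), y ∈ O ∧ ∃ t, (ψ.val.app (op O)).hom t = N.val.map (homOfLE hO).op s) :
    Epi ψ := by
  refine (SheafOfModules.toSheaf R).epi_of_epi_map ?_
  refine (Sheaf.isLocallySurjective_iff_epi' AddCommGrpCat.{u} _).1
    ((TopCat.Presheaf.isLocallySurjective_iff _).2 fun V s y hy => ?_)
  obtain ⟨O, hO, hyO, t, ht⟩ := h V s y hy
  exact ⟨O, hO, ⟨t, ht⟩, hyO⟩

end Groth.Agent.CartMod7
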